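import Cfsg.Agent.H341.CC.Rc
import Cfsg.Agent.H341.Nxc.ON
import Cfsg.Agent.H235.AA.ON
import Cfsg.Agent.CpAut.SporThree.ON
import Cfsg.Agent.H680.ONThirtyOne

/-!
# S3828, row of the O'Nan group (helper341)
-/

set_option autoImplicit false
set_option maxRecDepth 100000

namespace Cfsg.Agent.H341.CC.ONRow

open Subgroup Cfsg Cfsg.Agent.H162.CCR Cfsg.Agent.Lib.Cores Cfsg.Agent.H459.Rad Cfsg.Agent.H865.CC Cfsg.Agent.H341.CC
open Cfsg.Agent.H839.Rad (RadFree false_of_comm)
open Cfsg.Spor (ON)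
open Cfsg.Spor.ON (Gen)
open Cfsg.Agent.SporadicB.ON45Word (on)
open Cfsg.Agent.KFacts.MulSpor.ON (w)
open Cfsg.Agent.KFacts.ON.Words Cfsg.Agent.KFacts.ON.Struct Cfsg.Agent.KFacts.ON.Qs Cfsg.Agent.KFacts.ON.Estar
open Cfsg.Agent.ONType
open Cfsg.Agent.ONType.TupK (K0)
open Cfsg.Agent.ONType.TupT0 (T0)
open Cfsg.Agent.H235.AA.ON (card_ON simple not_comm)
open Cfsg.Agent.H460.AA Cfsg.Agent.H235.AA.Tools

instance fin : Finite ON := Cfsg.Agent.KFacts.ON.Cent.finite_ON

theorem pcore (p : ℕ) [Fact p.Prime] : pCore p ON = ⊥ := by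
  have := simple
  exact pCore_eq_bot_of_simple not_comm p

/-- a subgroup normalised by `g` one-sidedly -/
theorem mem_normalizer_of_conj {G : Type*} [Group G] [Finite G] {E : Subgroup G} {g : G}
    (h : ∀ e ∈ E, g * e * g⁻¹ ∈ E) : g ∈ normalizer (E : Set G) := by
  have h1 : E.map (MulAut.conj g).toMonoidHom ≤ E := by
    rintro _ ⟨x, hx, rfl⟩
    exact h x hx
  have h2 : E.map (MulAut.conj g).toMonoidHom = E := by
    apply Subgroup.eq_of_le_of_card_ge h1
    rw [Subgroup.card_map_of_injective (MulAut.conj g).injective]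
  rw [mem_normalizer_iff]
  intro x
  refine ⟨h x, fun hx => ?_⟩
  have h3 : g * x * g⁻¹ ∈ E.map (MulAut.conj g).toMonoidHom := by
    rw [h2]
    exact hx
  obtain ⟨y, hy, hyx⟩ := h3
  have h4 : g * y * g⁻¹ = g * x * g⁻¹ := hyx
  have h5 : y = x := by simpa using h4
  exact h5 ▸ hy

theorem cent_ne_top : centralizer ({on .f} : Set ON) ≠ ⊤ := by
  intro h
  have h1 : Nat.card ↥(centralizer ({on .f} : Set ON)) = 161280 := Cfsg.Agent.KFacts.ON.Cent.card_cent
  rw [h, card_top, card_ON] at h1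
  norm_num at h1

theorem row_two : CRow 2 ON := by
  have hF : Fact (Nat.Prime 2) := ⟨Nat.prime_two⟩
  have hsim := simple
  intro C hC
  obtain ⟨P, hP⟩ := Cfsg.Agent.KFacts.ON.OneClass.exists_sylow
  refine hC.eq_one_of_two (pcore 2) P (H := centralizer {on .f}) (K := normalizer (E : Set ON)) cent_ne_top ?_ ?_ ?_ ?_
  · intro h
    have h1 : E.Normal := normalizer_eq_top_iff.1 h
    rcases hsim.eq_bot_or_eq_top_of_normal E h1 with h2 | h2
    · have h3 : on .f ∈ E := fE
      rw [h2, mem_bot] at h3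
      exact f_ne_one h3
    · have h3 : Nat.card (TupS.S hs) = 512 := by
        rw [Cfsg.Agent.ONType.TupS.card_S hs Cfsg.Agent.KFacts.ON.Cent.card_K0]
      have h4 : E ≤ TupS.S hs := ESJ.trans inf_le_left
      rw [h2, top_le_iff] at h4
      rw [h4, card_top, card_ON] at h3
      norm_num at h3
  · intro t ht
    rw [hP] at ht
    exact mem_centralizer_singleton_iff.2 (mem_K0.1 (TupS.S_le hs ht))
  · intro t ht
    have h1 : (TupS.S hs).map (MulAut.conj t).toMonoidHom = TupS.S hs := by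
      rw [← hP]
      ext x
      constructor
      · rintro ⟨y, hy, rfl⟩
        exact P.mul_mem (P.mul_mem ht hy) (P.inv_mem ht)
      · intro hx
        exact ⟨t⁻¹ * x * t, P.mul_mem (P.mul_mem (P.inv_mem ht) hx) ht, by simp [mul_assoc]⟩
    have h2 := Cfsg.Agent.H341.NxcON.inv_E (MulAut.conj t) h1
    apply mem_normalizer_of_conj
    intro e he
    have h3 : MulAut.conj t e ∈ E.map (MulAut.conj t).toMonoidHom := ⟨e, he, rfl⟩
    rw [h2] at h3
    exact h3
  · rw [eq_top_iff, ← Cfsg.Agent.H341.NxcON.gen, closure_le]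
    rintro x (hx | hx)
    · exact le_sup_left (a := centralizer ({on .f} : Set ON)) (mem_centralizer_singleton_iff.2 hx)
    · refine le_sup_right (a := centralizer ({on .f} : Set ON)) ?_
      rw [Set.mem_singleton_iff.1 hx]
      exact mem_normalizer_of_conj WaE

/-- the centralizer of the involution `f` -/
theorem radFree_f {p : ℕ} (hp : p.Prime) (hp2 : p ≠ 2) : RadFree p ↥(centralizer ({on .f} : Set ON)) := by
  have hJle : J ≤ centralizer ({on .f} : Set ON) := by
    intro x hx
    exact mem_centralizer_singleton_iff.2 (mem_K0.1 (J_le hx))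
  have hcC : Nat.card ↥(centralizer ({on .f} : Set ON)) = 161280 := Cfsg.Agent.KFacts.ON.Cent.card_cent
  have hn : (J.subgroupOf (centralizer ({on .f} : Set ON))).Normal := by
    constructor
    intro x hx g
    exact mem_subgroupOf.2 (J_normal (mem_K0.2 (mem_centralizer_singleton_iff.1 g.2)) (mem_subgroupOf.1 hx))
  have hi : (J.subgroupOf (centralizer ({on .f} : Set ON))).index = 2 := by
    have h := (J.subgroupOf (centralizer ({on .f} : Set ON))).card_mul_index
    rw [Nat.card_congr (subgroupOfEquivOfLe hJle).toEquiv, card_J, hcC] at h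
    omega
  refine RadFree.of_index hp (J.subgroupOf (centralizer ({on .f} : Set ON))) ?_
    (RadFree.congr hp (subgroupOfEquivOfLe hJle) ?_)
  · rw [hi]
    intro h
    exact hp2 ((Nat.prime_dvd_prime_iff_eq hp Nat.prime_two).1 h)
  -- `J` is quasisimple with centre in `⟨v⟩`
  have hq : IsQuasisimple J := Cfsg.Agent.KFacts.ON.Qs.qs
  have h2 : IsSimpleGroup (J ⧸ center J) := hq.2
  have hns : ¬ Group.IsSolvable (J ⧸ center J) := by
    intro hs
    have h1 := IsSimpleGroup.comm_iff_isSolvable.2 hs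
    have h3 : commutator J = ⊤ := hq.1.commutator_eq_top
    have h4 : commutator J ≤ center J := by
      rw [_root_.commutator_def, commutator_le]
      intro a _ b _
      rw [← QuotientGroup.eq_one_iff]
      have h5 := h1 (a : J ⧸ center J) (b : J ⧸ center J)
      rw [← QuotientGroup.mk'_apply, map_commutatorElement, commutatorElement_eq_one_iff_mul_comm]
      exact h5
    rw [h3, top_le_iff] at h4
    have h6 : Subsingleton (J ⧸ center J) := by rw [h4]; exact QuotientGroup.subsingleton_quotient_top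
    exact not_subsingleton (J ⧸ center J) h6
  refine RadFree.of_surj hp (QuotientGroup.mk' (center J)) (QuotientGroup.mk'_surjective _) ?_
    (.of_simple hp.one_lt.ne' hns)
  intro x hx ho
  have h3 : x ∈ center J := (QuotientGroup.eq_one_iff x).1 hx
  have h4 : (x : ON) ∈ zpowers v := cent_J fun y hy => by
    have h5 := mem_center_iff.1 h3 ⟨y, hy⟩
    exact (congrArg Subtype.val h5).symm
  obtain ⟨k, hk⟩ := h4
  have hk' : v ^ k = (x : ON) := hk
  have hv4 : v ^ 4 = 1 := by
    have h5 : v ^ 2 = on .f := by rw [pow_two]; exact vv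
    rw [show 4 = 2 * 2 by norm_num, pow_mul, h5, pow_two, ff]
  have h6 : (x : ON) ^ 4 = 1 := by
    rw [← hk', ← zpow_natCast, ← zpow_mul, mul_comm, zpow_mul, zpow_natCast, hv4, one_zpow]
  have h7 : orderOf (x : ON) ∣ 2 ^ 2 := orderOf_dvd_of_pow_eq_one h6
  rw [Subgroup.orderOf_coe, ho] at h7
  exact hp2 ((Nat.prime_dvd_prime_iff_eq hp Nat.prime_two).1 (hp.dvd_of_dvd_pow h7))

/-- elements of `C` commute with no involution (`p` odd) -/
theorem eq_one_of_comm {p : ℕ} [hp : Fact p.Prime] (hp2 : p ≠ 2) {C : Set ON} (h : Min p C) {c t : ON} (hc : c ∈ C)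
    (ht1 : t ≠ 1) (ht2 : t * t = 1) (hct : c * t = t * c) : c = 1 := by
  have hfin := fin
  have h1 : IsConj t (on .f) := Cfsg.Agent.KFacts.ON.OneClass.one_class ht2 ht1
  obtain ⟨g, hg⟩ := isConj_iff.1 h1
  have h2 : g * c * g⁻¹ ∈ centralizer ({on .f} : Set ON) := by
    rw [mem_centralizer_singleton_iff, ← hg]
    calc g * c * g⁻¹ * (g * t * g⁻¹) = g * (c * t) * g⁻¹ := by group
      _ = g * (t * c) * g⁻¹ := by rw [hct]
      _ = _ := by group
  have h3 := h.eq_one_of_mem cent_ne_top (pCore_eq_bot_of_radFree (radFree_f hp.out hp2)) (h.conj g c hc) h2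
  simpa using h3

theorem row_three : CRow 3 ON := by
  have hF : Fact (Nat.Prime 3) := ⟨Nat.prime_three⟩
  have hfin := fin
  intro C hC c hc
  by_contra hc1
  -- exponent three
  have h3 : c ^ 3 = 1 := by
    obtain ⟨E, hE, -, hE3⟩ := Cfsg.Agent.CpAut.SporThree.ON.exists_E
    have hi : ¬ 3 ∣ E.index := by
      have h := E.card_mul_index
      rw [hE, card_ON] at h
      intro h3
      omega
    obtain ⟨g, hg⟩ := hC.exists_conj_mem hi hc
    have h4 := hE3 _ hg
    have h5 : (g * c * g⁻¹) ^ 3 = g * c ^ 3 * g⁻¹ := by rw [conj_pow]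
    rw [h5] at h4
    simpa using h4
  have ho : orderOf c = 3 := orderOf_eq_prime h3 hc1
  obtain ⟨s, hs2, hsx⟩ := Cfsg.Agent.R04.ONThree.exists_inv Cfsg.Agent.KFacts.ON.Cent.hON c ho
  refine hc1 (eq_one_of_comm (by norm_num) hC hc (t := s) ?_ ?_ hsx.symm)
  · rintro rfl
    rw [orderOf_one] at hs2
    omega
  · rw [← pow_two, ← hs2, pow_orderOf_eq_one]

theorem row_five : CRow 5 ON := by
  have hF : Fact (Nat.Prime 5) := ⟨by norm_num⟩
  intro C hC
  refine hC.eq_one_of_index cent_ne_top ?_ (pCore_eq_bot_of_radFree (radFree_f hF.out (by norm_num)))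
  have h := (centralizer ({on .f} : Set ON)).card_mul_index
  have h1 : Nat.card ↥(centralizer ({on .f} : Set ON)) = 161280 := Cfsg.Agent.KFacts.ON.Cent.card_cent
  rw [h1, card_ON] at h
  omega

/-- the subgroup `L3(7)` -/
theorem exists_l37 : ∃ M : Subgroup ON, IsSimpleGroup M ∧ Nat.card M = 1876896 := by
  obtain ⟨N, -, hN, ⟨e⟩⟩ := Cfsg.Agent.S1693.result
  have hps : IsSimpleGroup (Matrix.ProjectiveSpecialLinearGroup (Fin 3) (ZMod 7)) := by
    have : Fact (Nat.Prime 7) := ⟨by norm_num⟩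
    exact Cfsg.Agent.S0249.result 3 le_rfl
  have hNs : IsSimpleGroup N := e.isSimpleGroup
  have hcH : Nat.card Cfsg.Agent.SporRec.ONAssembly.H = 3753792 :=
    Cfsg.Agent.SporRec.ONAssembly.card_H SporRec.ONLower.ab_ne_one
  have hcN : Nat.card N = 1876896 := by
    have h := N.card_mul_index
    rw [hN] at h
    have h' : Nat.card N * 2 = 3753792 := h.trans hcH
    omega
  let M : Subgroup ON := N.map (Cfsg.Agent.SporRec.ONAssembly.H).subtype
  let f : N ≃* M := N.equivMapOfInjective _ (Subgroup.subtype_injective _)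
  exact ⟨M, f.symm.isSimpleGroup, by rw [← Nat.card_congr f.toEquiv, hcN]⟩

theorem row_l37 {p : ℕ} [hp : Fact p.Prime] (h7 : ¬ p ∣ 245520) : CRow p ON := by
  obtain ⟨M, hMs, hcM⟩ := exists_l37
  have hidx : M.index = 245520 := by
    have h := M.card_mul_index
    rw [hcM, card_ON] at h
    omega
  intro C hC
  refine hC.eq_one_of_index (H := M) ?_ (by rwa [hidx]) ?_
  · intro h
    rw [h, index_top] at hidx
    omega
  · exact pCore_eq_bot_of_simple (not_comm_of_card (K := M) (by rw [hcM]; norm_num)) p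

theorem row_seven : CRow 7 ON := by
  have hF : Fact (Nat.Prime 7) := ⟨by norm_num⟩
  exact row_l37 (by norm_num)

theorem row_nineteen : CRow 19 ON := by
  have hF : Fact (Nat.Prime 19) := ⟨by norm_num⟩
  exact row_l37 (by norm_num)

theorem row_eleven : CRow 11 ON := by
  have hF : Fact (Nat.Prime 11) := ⟨by norm_num⟩
  obtain ⟨ι, hι⟩ := Cfsg.Agent.H474.ONC.exists_emb
  have hcJ : Nat.card Spor.J1 = 175560 := Cfsg.Agent.SporadicB.J1.Main.isJ1.2
  have hsJ : IsSimpleGroup Spor.J1 := Cfsg.Agent.SporadicB.J1.Main.isJ1.1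
  let f : Spor.J1 ≃* ι.range := ι.ofInjective hι
  have hMs : IsSimpleGroup ι.range := f.symm.isSimpleGroup
  have hcM : Nat.card ι.range = 175560 := by rw [← Nat.card_congr f.toEquiv, hcJ]
  have hidx : ι.range.index = 2624832 := by
    have h := ι.range.card_mul_index
    rw [hcM, card_ON] at h
    omega
  intro C hC
  refine hC.eq_one_of_index (H := ι.range) ?_ (by rw [hidx]; norm_num) ?_
  · intro h
    rw [h, index_top] at hidx
    omega
  · exact pCore_eq_bot_of_simple (not_comm_of_card (K := ι.range) (by rw [hcM]; norm_num)) 11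

theorem row_thirtyone : CRow 31 ON := by
  have hF : Fact (Nat.Prime 31) := ⟨by norm_num⟩
  have hfin := fin
  have hsim := simple
  intro C hC c hc
  by_contra hc1
  obtain ⟨e, he, he1, hte⟩ := hC.exists_inverted (pcore 31) hc hc1 (t := on .f) ff f_ne_one hsim
  obtain ⟨k, hk⟩ := hC.pel e he
  have hk1 : orderOf e = 31 := by
    have h1 : orderOf e ∣ 460815505920 := card_ON ▸ orderOf_dvd_natCard e
    rw [hk] at h1
    rcases k with _ | _ | k
    · rw [pow_zero, orderOf_eq_one_iff] at hk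
      exact absurd hk he1
    · rw [hk]
      norm_num
    · exfalso
      have h2 : 31 ^ 2 ∣ 460815505920 := (Nat.pow_dvd_pow 31 (by omega : 2 ≤ k + 2)).trans h1
      norm_num at h2
  obtain ⟨n, hn, hN⟩ := CpAutON.Gen.card_eq (G := ON) (p := 31) (by rw [card_ON]; norm_num) hk1
  have hr := Cfsg.Agent.H474.ONC.range_dvd hk1
  have hNc := CpAutON.Gen.card_normalizer e
  rw [Cfsg.Agent.H680.ONThirtyOne.card_cent hk1] at hNc
  rw [Cfsg.Agent.H680.ONThirtyOne.card_cent hk1, card_ON] at hN
  have h2 : 2 ∣ Nat.card ↥(normalizer ((zpowers e : Subgroup ON) : Set ON)) := by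
    have h3 : on .f ∈ normalizer ((zpowers e : Subgroup ON) : Set ON) := by
      apply mem_normalizer_of_conj
      rintro _ ⟨j, rfl⟩
      refine ⟨-j, ?_⟩
      show e ^ (-j) = on .f * e ^ j * (on .f)⁻¹
      rw [← conj_zpow, hte, inv_zpow, zpow_neg]
    have h4 : orderOf (on .f) = 2 := orderOf_eq_prime (by rw [pow_two]; exact ff) f_ne_one
    rw [← h4, ← Subgroup.orderOf_mk _ h3]
    exact orderOf_dvd_natCard _
  rw [hNc] at h2
  generalize Nat.card ↥((zpowers e).normalizerMonoidHom).range = m at hr hN h2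
  have hm : m ≤ 30 := Nat.le_of_dvd (by norm_num) hr
  interval_cases m <;> first | (revert hr; norm_num; done) | (revert h2; norm_num; done) | omega

/-- **All rows of `ON`.** -/
theorem row (p : ℕ) [hp : Fact p.Prime] : CRow p ON := by
  by_cases hd : p ∣ Nat.card ON
  · have h1 : p ∣ 2 ^ 9 * (3 ^ 4 * (5 * (7 ^ 3 * (11 * (19 * 31))))) := by
      rw [card_ON] at hd
      exact hd
    have key : ∀ {q : ℕ}, q.Prime → p ∣ q → p = q := fun hq h => (Nat.prime_dvd_prime_iff_eq hp.out hq).1 h
    rcases (Nat.Prime.dvd_mul hp.out).1 h1 with h2 | h2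
    · obtain rfl := key Nat.prime_two (hp.out.dvd_of_dvd_pow h2)
      exact row_two
    rcases (Nat.Prime.dvd_mul hp.out).1 h2 with h3 | h3
    · obtain rfl := key Nat.prime_three (hp.out.dvd_of_dvd_pow h3)
      exact row_three
    rcases (Nat.Prime.dvd_mul hp.out).1 h3 with h4 | h4
    · obtain rfl := key (by norm_num) h4
      exact row_five
    rcases (Nat.Prime.dvd_mul hp.out).1 h4 with h5 | h5
    · obtain rfl := key (by norm_num) (hp.out.dvd_of_dvd_pow h5)
      exact row_seven
    rcases (Nat.Prime.dvd_mul hp.out).1 h5 with h6 | h6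
    · obtain rfl := key (by norm_num) h6
      exact row_eleven
    rcases (Nat.Prime.dvd_mul hp.out).1 h6 with h7 | h7
    · obtain rfl := key (by norm_num) h7
      exact row_nineteen
    · obtain rfl := key (by norm_num) h7
      exact row_thirtyone
  · exact crow_of_not_dvd hd

end Cfsg.Agent.H341.CC.ONRow

namespace Cfsg.Agent.H341.CC

open Cfsg Cfsg.Agent.H162.CCR

/-- **The row of the O'Nan group.** -/
theorem crow_on {G : Type*} [Group G] [Finite G] (h : Spor.IsoON G) (p : ℕ) [Fact p.Prime] : CRow p G := by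
  obtain ⟨e⟩ := h
  exact CRow.of_equiv e (ONRow.row p)

end Cfsg.Agent.H341.CC
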